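import Cfsg.Agent.Lib.CoThreeUnique.Bound.Base

/-!
Orbit certificates for the universal property of an amalgam of an involution centraliser with two normalisers:
the data and the checks, in terms of a product of codes.
-/

set_option autoImplicit false

namespace CfsgLib.HeUnique.Cert

open CfsgLib.CoThreeUnique.Bound (Tbl)

/-- One lookup in a derived edge equation: the step used, the factor on the left, its conjugate under the edge
element, and a stabiliser equation. -/
structure Look where
  fact : Nat
  d : Nat
  d' : Nat
  stab : Nat

/-- One step. The conclusion is either `x * P i = P i * h`, or `g k * c * P i = m * P j * h`. -/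
inductive Fact where
  | unit (i : Nat)
  | zero (x : Nat)
  | mul (i a b x : Nat)
  | coin (j f f' x : Nat)
  | transfer (j : Nat) (l : Look) (x : Nat)
  | tree (i k c j : Nat)
  | flip (l : Look) (i k c j m : Nat)
  | chain (n : Nat) (ls : List Look) (i k c j m : Nat)

/-- A table of steps. -/
inductive FTbl where
  | leaf (f : Fact)
  | node (l r : FTbl)

/-- The step at an index. -/
def FTbl.get : FTbl → Nat → Fact
  | .leaf f, _ => f
  | .node l r, i => if i % 2 == 0 then l.get (i / 2) else r.get (i / 2)

/-- Whether the conclusion is a stabiliser equation. -/
def Fact.isK : Fact → Bool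
  | .unit _ | .zero _ | .mul _ _ _ _ | .coin _ _ _ _ | .transfer _ _ _ => true
  | _ => false

/-- The source orbit. -/
def Fact.src : Fact → Nat
  | .unit i | .mul i _ _ _ | .coin i _ _ _ | .transfer i _ _ => i
  | .zero _ => 0
  | .tree i _ _ _ | .flip _ i _ _ _ _ | .chain _ _ i _ _ _ _ => i

/-- The edge type. -/
def Fact.typ : Fact → Nat
  | .tree _ k _ _ | .flip _ _ k _ _ _ | .chain _ _ _ k _ _ _ => k
  | _ => 0

/-- The element of the conclusion at the source. -/
def Fact.elt : Fact → Nat
  | .unit _ => 0
  | .zero x | .mul _ _ _ x | .coin _ _ _ x | .transfer _ _ x => x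
  | .tree _ _ c _ | .flip _ _ _ c _ _ | .chain _ _ _ _ c _ _ => c

/-- The target orbit. -/
def Fact.tgt : Fact → Nat
  | .tree _ _ _ j | .flip _ _ _ _ j _ | .chain _ _ _ _ _ j _ => j
  | _ => 0

/-- The element of the conclusion at the target. -/
def Fact.out : Fact → Nat
  | .flip _ _ _ _ _ m | .chain _ _ _ _ _ _ m => m
  | _ => 0

/-- An entry of a covering forest: the representative `p` is `d * c * k`, either with the edge step `f`
(`root`), or through the earlier entry `prev` and the stabiliser step `f`. -/
structure Entry where
  root : Bool
  p : Nat
  prev : Nat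
  f : Nat
  d : Nat

/-- The data of a certificate. Elements of the centraliser are indices of nodes; the bits of the tag of a node
record membership in the two elementary abelian subgroups (bits 0, 1), their normalisers (bits 2, 3), and the
domains of conjugation by the two edge elements (bits 4, 5). -/
structure Data where
  /-- The code of the involution. -/
  zc : Nat
  /-- The codes of the nodes. -/
  codes : Tbl
  /-- The parents of a node, packed by `8192`. -/
  par : Tbl
  /-- The membership bits. -/
  tag : Tbl
  /-- The number of nodes. -/
  size : Nat
  /-- The nodes `1, ..., ncg` are given generators. -/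
  ncg : Nat
  /-- The generating nodes for each bit. -/
  gens : List (List Nat)
  /-- The codes of the edge elements. -/
  edge : List Nat
  /-- The normaliser containing the domain of each edge element. -/
  side : List Nat
  /-- Witnesses `(q, h, e, y)` with `h * e = y * h`. -/
  conjW : List (Nat × Nat × Nat × Nat)
  /-- Witnesses `(q, k, e, y)` with `g k * e = y * g k`. -/
  edgeW : List (Nat × Nat × Nat × Nat)
  /-- Witnesses `(k, d, d')` with `g k * d = d' * g k`. -/
  domW : List (Nat × Nat × Nat)
  /-- For each edge type `(a, k', b)` with `g k * a * g k' * b = 1`. -/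
  flips : List (Nat × Nat × Nat)
  /-- Identities `(q, k, path, h)` in the normalisers. -/
  idents : List (Nat × Nat × List (Nat × Nat) × Nat)
  /-- The steps. -/
  facts : FTbl
  /-- The number of steps. -/
  nfacts : Nat
  /-- The number of orbits. -/
  norb : Nat
  /-- The tree edge `(i, k, c)` defining each orbit. -/
  orbs : List (Nat × Nat × Nat)
  /-- The right coset representatives for each edge type. -/
  reps : List (List Nat)
  /-- For each representative and generator, the new representative and the left factor. -/
  moves : List (List (List (Nat × Nat)))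
  /-- The forests, for each edge type and orbit. -/
  forests : List (List (List Entry))
  /-- Generators of the whole group with their decompositions. -/
  top : List (Nat × Nat × Nat × Nat)

variable (mul : Nat → Nat → Nat) (one : Nat) (D : Data)

/-- The code of a node. -/
def Data.code (n : Nat) : Nat := if Nat.blt n D.size then D.codes.get n else one

/-- The code of an edge element. -/
def Data.g (k : Nat) : Nat := D.edge.getD k one

/-- A node carries a bit. -/
def Data.has (t n : Nat) : Bool := Nat.blt n D.size && (D.tag.get n / 2 ^ t) % 2 == 1

/-- The step at an index. -/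
def Data.fact (n : Nat) : Fact := D.facts.get n

/-- The check of one node. -/
def nodeOK (n : Nat) : Bool :=
  let a := D.par.get n / 8192
  let b := D.par.get n % 8192
  (if n == 0 then D.codes.get n == one else
    (Nat.ble n D.ncg || Nat.blt a n && Nat.blt b n && D.codes.get n == mul (D.codes.get a) (D.codes.get b))) &&
  (List.range 6).all fun t => !(D.has t n) || n == 0 || (D.gens.getD t []).contains n ||
    (!(Nat.ble n D.ncg) && D.has t a && D.has t b)

/-- The generators commute with the involution. -/
def centOK : Bool :=
  (List.range D.ncg).all fun n =>
    mul D.zc (D.code one (n + 1)) == mul (D.code one (n + 1)) D.zc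

/-- The conjugation witnesses for a node against the generators of an elementary abelian subgroup. -/
def normOK (q h : Nat) : Bool :=
  (D.gens.getD q []).all fun e => D.conjW.any fun w => w.1 == q && w.2.1 == h && w.2.2.1 == e &&
    D.has q w.2.2.2 && mul (D.code one h) (D.code one e) == mul (D.code one w.2.2.2) (D.code one h)

/-- The edge elements and the generators of the normalisers and domains. -/
def localOK : Bool :=
  ((List.range 2).all fun q => (D.gens.getD (2 + q) []).all fun h => normOK mul one D q h) &&
  ((List.range 2).all fun k => (List.range 2).all fun q => (D.gens.getD q []).all fun e =>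
    D.edgeW.any fun w => w.1 == q && w.2.1 == k && w.2.2.1 == e && D.has q w.2.2.2 &&
      mul (D.g one k) (D.code one e) == mul (D.code one w.2.2.2) (D.g one k)) &&
  ((List.range 2).all fun k => Nat.blt (D.side.getD k 2) 2 &&
    (D.gens.getD (4 + k) []).all fun d => normOK mul one D (D.side.getD k 2) d &&
      D.domW.any fun w => w.1 == k && w.2.1 == d &&
        mul (D.g one k) (D.code one d) == mul (D.code one w.2.2) (D.g one k))

/-- The check of one identity in a normaliser. -/
def identOK (x : Nat × Nat × List (Nat × Nat) × Nat) : Bool :=
  Nat.blt x.1 2 && Nat.blt x.2.1 2 && D.has (2 + x.1) x.2.2.2 &&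
    x.2.2.1.all (fun s => D.has (2 + x.1) s.1 && Nat.blt s.2 2) &&
    x.2.2.1.foldl (fun acc s => mul (D.code one s.1) (mul (D.g one s.2) acc)) (D.code one x.2.2.2) ==
      D.g one x.2.1

/-- The check of one inversion identity. -/
def flipOK (k : Nat) : Bool :=
  let w := D.flips.getD k (0, 2, 0)
  Nat.blt w.2.1 2 && D.has 2 w.1 && D.has 2 w.2.2 &&
    mul (D.g one k) (mul (D.code one w.1) (mul (D.g one w.2.1) (D.code one w.2.2))) == one

/-- An earlier step gives a stabiliser equation in an orbit. -/
def kAt (n a i : Nat) : Bool := Nat.blt a n && (D.fact a).isK && (D.fact a).src == i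

/-- An earlier step gives an edge equation. -/
def gAt (n a : Nat) : Bool := Nat.blt a n && !(D.fact a).isK

/-- A lookup is well formed. -/
def lookOK (n : Nat) (l : Look) : Bool :=
  gAt D n l.fact && Nat.blt (D.fact l.fact).typ 2 && D.has (4 + (D.fact l.fact).typ) l.d &&
    mul (D.g one (D.fact l.fact).typ) (D.code one l.d) ==
      mul (D.code one l.d') (D.g one (D.fact l.fact).typ)

/-- A lookup applies at the code `c` in the orbit `i`. -/
def lookAt (n : Nat) (l : Look) (i c : Nat) : Bool :=
  lookOK mul one D n l && (D.fact l.fact).src == i && kAt D n l.stab i &&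
    mul (D.code one l.d) (mul (D.code one (D.fact l.fact).elt) (D.code one (D.fact l.stab).elt)) == c

/-- The check of a chain of lookups along a path. -/
def chainAt (n : Nat) : List (Nat × Nat) → List Look → Nat → Nat → Nat → Nat → Bool
  | [], [], i, c, j, m => i == j && c == m
  | s :: ps, l :: ls, i, c, j, m => lookAt mul one D n l i c && (D.fact l.fact).typ == s.2 &&
      chainAt n ps ls (D.fact l.fact).tgt
        (mul (D.code one s.1) (mul (D.code one l.d') (D.code one (D.fact l.fact).out))) j m
  | _, _, _, _, _, _ => false

/-- The check of one step. -/
def stepOK (n : Nat) : Fact → Bool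
  | .unit _ => true
  | .zero _ => true
  | .mul i a b x => kAt D n a i && kAt D n b i &&
      D.code one x == mul (D.code one (D.fact a).elt) (D.code one (D.fact b).elt)
  | .coin j f f' x => gAt D n f && gAt D n f' && (D.fact f).src == (D.fact f').src &&
      (D.fact f).typ == (D.fact f').typ && (D.fact f).elt == (D.fact f').elt &&
      (D.fact f).tgt == (D.fact f').tgt && (D.fact f).tgt == j &&
      mul (D.code one (D.fact f).out) (D.code one x) == D.code one (D.fact f').out
  | .transfer j l x => lookOK mul one D n l && (D.fact l.fact).tgt == j &&
      kAt D n l.stab (D.fact l.fact).src &&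
      mul (D.code one l.d) (D.code one (D.fact l.fact).elt) ==
        mul (D.code one (D.fact l.fact).elt) (D.code one (D.fact l.stab).elt) &&
      mul (D.code one l.d') (D.code one (D.fact l.fact).out) ==
        mul (D.code one (D.fact l.fact).out) (D.code one x)
  | .tree i k c j => Nat.blt i j && Nat.blt j D.norb && Nat.blt k 2 && D.orbs.getD j (0, 2, 0) == (i, k, c)
  | .flip l i k c j m =>
      gAt D n l.fact && Nat.blt (D.fact l.fact).typ 2 && (D.fact l.fact).tgt == i &&
      (D.fact l.fact).src == j && Nat.blt j D.norb && kAt D n l.stab i &&
      (let w := D.flips.getD (D.fact l.fact).typ (0, 2, 0)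
       flipOK mul one D (D.fact l.fact).typ && w.2.1 == k && D.has (4 + k) l.d &&
        mul (D.g one k) (D.code one l.d) == mul (D.code one l.d') (D.g one k) &&
        mul (D.code one w.2.2) (D.code one (D.fact l.fact).out) ==
          mul (D.code one l.d) (mul (D.code one c) (D.code one (D.fact l.stab).elt)) &&
        mul (D.code one w.1) (mul (D.code one l.d') (D.code one m)) == D.code one (D.fact l.fact).elt)
  | .chain e ls i k c j m =>
      let x := D.idents.getD e (2, 2, [], 0)
      identOK mul one D x && x.2.1 == k && Nat.blt j D.norb &&
        chainAt mul one D n x.2.2.1 ls i (mul (D.code one x.2.2.2) (D.code one c)) j (D.code one m)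

/-- The representatives of the right cosets are closed under the generators. -/
def movesOK (k : Nat) : Bool :=
  let R := D.reps.getD k []
  R.getD 0 1 == 0 && (List.range R.length).all fun p => (List.range D.ncg).all fun s =>
    let w := ((D.moves.getD k []).getD p []).getD s (R.length, 0)
    Nat.blt w.1 R.length && D.has (4 + k) w.2 &&
      mul (D.code one (R.getD p 0)) (D.code one (s + 1)) == mul (D.code one w.2) (D.code one (R.getD w.1 0))

/-- The check of an entry of a forest. -/
def entryOK (k i : Nat) (F : List Entry) (n : Nat) (e : Entry) : Bool :=
  let r := D.code one ((D.reps.getD k []).getD e.p 0)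
  Nat.blt e.f D.nfacts && D.has (4 + k) e.d && (D.fact e.f).src == i &&
    if e.root then
      !(D.fact e.f).isK && (D.fact e.f).typ == k &&
        r == mul (D.code one e.d) (D.code one (D.fact e.f).elt)
    else
      Nat.blt e.prev n && (D.fact e.f).isK &&
        r == mul (D.code one e.d)
          (mul (D.code one ((D.reps.getD k []).getD (F.getD e.prev ⟨true, 0, 0, 0, 0⟩).p 0))
            (D.code one (D.fact e.f).elt))

/-- The check of a forest. -/
def forestOK (k i : Nat) : Bool :=
  let F := (D.forests.getD k []).getD i []
  ((List.range F.length).all fun n => entryOK mul one D k i F n (F.getD n ⟨true, 0, 0, 0, 0⟩)) &&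
    (List.range (D.reps.getD k []).length).all fun p => F.any fun e => e.p == p

/-- The code of the representative of an orbit, with fuel. -/
def repCode : Nat → Nat → Nat
  | 0, _ => one
  | f + 1, j =>
    if j == 0 then one else
      let w := D.orbs.getD j (0, 2, 0)
      mul (D.g one w.2.1) (mul (D.code one w.2.2) (repCode f w.1))

/-- The check of the orbits and of the given generators of the whole group. -/
def orbsOK : Bool :=
  ((List.range D.norb).all fun j => j == 0 ||
    Nat.blt (D.orbs.getD j (0, 2, 0)).1 j && Nat.blt (D.orbs.getD j (0, 2, 0)).2.1 2 &&
      !(mul D.zc (repCode mul one D j j) == mul (repCode mul one D j j) D.zc)) &&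
  Nat.blt 0 D.norb &&
  D.top.all fun w => Nat.blt w.2.2.1 D.norb &&
    w.1 == mul (D.code one w.2.1) (mul (repCode mul one D w.2.2.1 w.2.2.1) (D.code one w.2.2.2))

/-- All nodes. -/
def nodesOK (lo hi : Nat) : Bool := (List.range (hi - lo)).all fun n => nodeOK mul one D (lo + n)

/-- All steps. -/
def stepsOK (lo hi : Nat) : Bool := (List.range (hi - lo)).all fun n => stepOK mul one D (lo + n) (D.fact (lo + n))

/-- All forests. -/
def coverOK : Bool :=
  (List.range 2).all fun k => movesOK mul one D k && (List.range D.norb).all fun i => forestOK mul one D k i

end CfsgLib.HeUnique.Cert
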