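import Cfsg.Agent.Lib.HeUnique.Cert.Defs
import Cfsg.Agent.Lib.HeUnique.Spec
import Cfsg.Agent.Lib.Fusion48.RepTable

/-!
The elements behind the nodes of a certificate and the memberships recorded by their tags.
-/

set_option autoImplicit false

namespace CfsgLib.HeUnique.Cert

set_option maxHeartbeats 400000

open CfsgLib.Fusion48.RepTable

universe v

variable {X : Type v} [Group X] (K : Coded X) (D : Data)

/-- The elementary abelian subgroups named by a certificate. -/
def E (q : ℕ) : Subgroup X := Subgroup.closure {x | ∃ n ∈ D.gens.getD q [], K.Rep (D.code K.one n) x}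

/-- The conditions for a certificate to apply to the involution `z`. -/
structure Valid (z : X) : Prop where
  rep_z : K.Rep D.zc z
  rep_gen : ∀ n < D.ncg, ∃ x, K.Rep (D.codes.get (n + 1)) x
  rep_edge : ∀ k < 2, ∃ x, K.Rep (D.g K.one k) x
  ncg_lt : D.ncg < D.size
  nodes : ∀ n < D.size, nodeOK K.mul K.one D n = true
  cent : centOK K.mul K.one D = true
  loc : localOK K.mul K.one D = true
  steps : ∀ n < D.nfacts, stepOK K.mul K.one D n (D.fact n) = true
  orbs : orbsOK K.mul K.one D = true
  cover : coverOK K.mul K.one D = true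

variable {K D} {z : X}

/-- Equal codes code equal elements. -/
theorem eq_of_code {a b : ℕ} {x y : X} (hx : K.Rep a x) (hy : K.Rep b y) (h : a = b) : x = y :=
  K.rep_uniq hx (h ▸ hy)

namespace Valid

variable (hV : Valid K D z)

theorem code_lt {n : ℕ} (h : n < D.size) : D.code K.one n = D.codes.get n :=
  if_pos (Nat.ble_eq_true_of_le h)

theorem code_ge {n : ℕ} (h : ¬ n < D.size) : D.code K.one n = K.one :=
  if_neg fun e => h (Nat.le_of_ble_eq_true e)

include hV

theorem cent_of_rep {c : ℕ} {x : X} (hx : K.Rep c x) (h : K.mul D.zc c = K.mul c D.zc) :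
    x ∈ Subgroup.centralizer ({z} : Set X) :=
  Subgroup.mem_centralizer_singleton_iff.2
    (eq_of_code (K.rep_mul hV.rep_z hx) (K.rep_mul hx hV.rep_z) h).symm

theorem exists_node (n : ℕ) (hn : n < D.size) :
    ∃ x ∈ Subgroup.centralizer ({z} : Set X), K.Rep (D.codes.get n) x := by
  induction n using Nat.strong_induction_on with
  | _ n ih =>
    have h := hV.nodes n hn
    simp only [nodeOK, Bool.and_eq_true] at h
    replace h := h.1
    by_cases h0 : n = 0
    · subst h0
      refine ⟨1, one_mem _, ?_⟩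
      simp only [beq_self_eq_true, if_true, beq_iff_eq] at h
      exact h ▸ K.rep_one
    · simp only [beq_iff_eq, if_neg h0, Bool.or_eq_true, Bool.and_eq_true, Nat.ble_eq, Nat.blt_eq] at h
      rcases h with hle | ⟨⟨ha, hb⟩, he⟩
      · obtain ⟨m, rfl⟩ := Nat.exists_eq_succ_of_ne_zero h0
        obtain ⟨x, hx⟩ := hV.rep_gen m hle
        refine ⟨x, hV.cent_of_rep hx ?_, hx⟩
        have hc := List.all_eq_true.1 hV.cent m (List.mem_range.2 hle)
        rw [beq_iff_eq, code_lt hn] at hc
        exact hc
      · obtain ⟨a, hac, har⟩ := ih _ ha (ha.trans hn)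
        obtain ⟨b, hbc, hbr⟩ := ih _ hb (hb.trans hn)
        exact ⟨a * b, mul_mem hac hbc, he ▸ K.rep_mul har hbr⟩

/-- The element at a node. -/
noncomputable def el (n : ℕ) : X := if h : n < D.size then (hV.exists_node n h).choose else 1

theorem el_mem (n : ℕ) : hV.el n ∈ Subgroup.centralizer ({z} : Set X) := by
  unfold el
  split_ifs with h
  · exact (hV.exists_node n h).choose_spec.1
  · exact one_mem _

theorem rep_el (n : ℕ) : K.Rep (D.code K.one n) (hV.el n) := by
  unfold el
  split_ifs with h
  · rw [code_lt h]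
    exact (hV.exists_node n h).choose_spec.2
  · rw [code_ge h]
    exact K.rep_one

theorem el_eq {n : ℕ} {x : X} (h : K.Rep (D.code K.one n) x) : hV.el n = x := K.rep_uniq (hV.rep_el n) h

theorem size_pos : 0 < D.size := Nat.zero_lt_of_lt hV.ncg_lt

theorem el_zero : hV.el 0 = 1 := by
  have h := hV.nodes 0 hV.size_pos
  simp only [nodeOK, Bool.and_eq_true] at h
  have h1 := h.1
  simp only [beq_self_eq_true, if_true, beq_iff_eq] at h1
  refine hV.el_eq ?_
  rw [code_lt hV.size_pos, h1]
  exact K.rep_one

/-- A tag is witnessed by membership of the generators of that bit. -/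
theorem tag_mem {t : ℕ} (ht : t < 6) (S : Subgroup X) (hS : ∀ n ∈ D.gens.getD t [], hV.el n ∈ S) (n : ℕ)
    (h : D.has t n = true) : hV.el n ∈ S := by
  induction n using Nat.strong_induction_on with
  | _ n ih =>
    have h' := h
    simp only [Data.has, Bool.and_eq_true, Nat.blt_eq] at h'
    have hn := h'.1
    have hc := hV.nodes n hn
    simp only [nodeOK, Bool.and_eq_true] at hc
    have ht' := List.all_eq_true.1 hc.2 t (List.mem_range.2 ht)
    simp only [h, Bool.not_true, Bool.false_or, Bool.or_eq_true, beq_iff_eq, List.contains_eq_mem,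
      decide_eq_true_eq, Bool.and_eq_true, Bool.not_eq_true'] at ht'
    rcases ht' with (h0 | hm) | ⟨⟨hle, hta⟩, htb⟩
    · subst h0
      rw [hV.el_zero]
      exact one_mem _
    · exact hS n hm
    · have h0 : n ≠ 0 := fun e => by
        rw [e, Nat.ble_eq_true_of_le (Nat.zero_le _)] at hle
        exact Bool.noConfusion hle
      have hh := hc.1
      have hb0 : (n == 0) = false := beq_eq_false_iff_ne.2 h0
      simp only [hb0, Bool.false_eq_true, if_false, Bool.or_eq_true, Bool.and_eq_true, hle,
        false_or, Nat.blt_eq, beq_iff_eq] at hh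
      obtain ⟨⟨ha, hb⟩, he⟩ := hh
      have hmul : hV.el n = hV.el (D.par.get n / 8192) * hV.el (D.par.get n % 8192) := by
        refine hV.el_eq ?_
        rw [code_lt hn, he, ← code_lt (K := K) (ha.trans hn), ← code_lt (K := K) (hb.trans hn)]
        exact K.rep_mul (hV.rep_el _) (hV.rep_el _)
      rw [hmul]
      exact mul_mem (ih _ ha hta) (ih _ hb htb)

theorem mem_E {q n : ℕ} (hq : q < 2) (h : D.has q n = true) : hV.el n ∈ E K D q :=
  hV.tag_mem (by omega) (E K D q) (fun m hm => Subgroup.subset_closure (show hV.el m ∈ {x | ∃ n ∈ D.gens.getD q [], K.Rep (D.code K.one n) x} from ⟨m, hm, hV.rep_el m⟩)) n h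

theorem E_eq (q : ℕ) : E K D q = Subgroup.closure {x | ∃ n ∈ D.gens.getD q [], hV.el n = x} := by
  apply le_antisymm <;> refine Subgroup.closure_mono ?_ <;> rintro x ⟨n, hn, h⟩
  · exact ⟨n, hn, hV.el_eq h⟩
  · refine ⟨n, hn, ?_⟩
    rw [← h]
    exact hV.rep_el n

theorem mem_normalizer_E [Finite X] {q : ℕ} {x : X}
    (h : ∀ n ∈ D.gens.getD q [], x * hV.el n * x⁻¹ ∈ E K D q) :
    x ∈ Subgroup.normalizer (E K D q : Set X) := by
  have hle : (E K D q).map (MulAut.conj x).toMonoidHom ≤ E K D q := by
    rw [Subgroup.map_le_iff_le_comap]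
    conv_lhs => rw [hV.E_eq q]
    rw [Subgroup.closure_le]
    rintro _ ⟨n, hn, rfl⟩
    exact h n hn
  have heq : (E K D q).map (MulAut.conj x).toMonoidHom = E K D q :=
    Subgroup.eq_of_le_of_card_ge hle
      (le_of_eq (Nat.card_congr (Subgroup.equivMapOfInjective _ _ (MulAut.conj x).injective).toEquiv))
  refine Subgroup.mem_normalizer_iff.2 fun w => ⟨fun hw => ?_, fun hw => ?_⟩
  · exact hle (Subgroup.mem_map_of_mem (MulAut.conj x).toMonoidHom hw)
  · rw [← heq] at hw
    obtain ⟨y, hy, hxy⟩ := Subgroup.mem_map.1 hw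
    have : y = w := (MulAut.conj x).injective hxy
    rw [← this]
    exact hy

end Valid

end CfsgLib.HeUnique.Cert
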