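import Cfsg.Agent.Lib.HeUnique.Cert.Elem

/-!
An amalgam lifted to the product with the model of a certificate.
-/

set_option autoImplicit false

namespace CfsgLib.HeUnique.Cert

open CfsgLib.Fusion48.RepTable Subgroup

universe u v

variable {X : Type v} [Group X] {K : Coded X} {D : Data} {z : X} (hV : Valid K D z)
variable {G : Type u} [Group G] (A : Amalgam z (E K D 0) (E K D 1) G)

/-- The normaliser with a given index. -/
abbrev Nn (K : Coded X) (D : Data) (q : ℕ) : Subgroup X := normalizer (E K D q : Set X)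

open Classical in
/-- An element of the centraliser with its image. -/
noncomputable def L (x : X) : G × X :=
  if h : x ∈ centralizer ({z} : Set X) then (A.θ ⟨x, h⟩, x) else 1

open Classical in
/-- An element of one of the normalisers with its image. -/
noncomputable def M (q : ℕ) (x : X) : G × X :=
  if q = 0 then (if h : x ∈ Nn K D 0 then (A.ψ₁ ⟨x, h⟩, x) else 1)
  else (if h : x ∈ Nn K D 1 then (A.ψ₂ ⟨x, h⟩, x) else 1)

theorem L_apply {x : X} (h : x ∈ centralizer ({z} : Set X)) : L A x = (A.θ ⟨x, h⟩, x) := dif_pos h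

theorem M_zero {x : X} (h : x ∈ Nn K D 0) : M A 0 x = (A.ψ₁ ⟨x, h⟩, x) := by
  rw [M, if_pos rfl, dif_pos h]

theorem M_one {x : X} (h : x ∈ Nn K D 1) : M A 1 x = (A.ψ₂ ⟨x, h⟩, x) := by
  rw [M, if_neg Nat.one_ne_zero, dif_pos h]

theorem L_mul {x y : X} (hx : x ∈ centralizer ({z} : Set X)) (hy : y ∈ centralizer ({z} : Set X)) :
    L A (x * y) = L A x * L A y := by
  rw [L_apply A hx, L_apply A hy, L_apply A (mul_mem hx hy), Prod.mk_mul_mk, ← map_mul]
  rfl

theorem M_mul {q : ℕ} (hq : q < 2) {x y : X} (hx : x ∈ Nn K D q) (hy : y ∈ Nn K D q) :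
    M A q (x * y) = M A q x * M A q y := by
  interval_cases q
  · rw [M_zero A hx, M_zero A hy, M_zero A (mul_mem hx hy), Prod.mk_mul_mk, ← map_mul]
    rfl
  · rw [M_one A hx, M_one A hy, M_one A (mul_mem hx hy), Prod.mk_mul_mk, ← map_mul]
    rfl

theorem L_one : L A 1 = 1 := by
  rw [L_apply A (one_mem _), show (⟨1, one_mem _⟩ : centralizer ({z} : Set X)) = 1 from rfl, map_one]
  rfl

theorem M_one' {q : ℕ} (hq : q < 2) : M A q 1 = 1 := by
  interval_cases q
  · rw [M_zero A (one_mem _), show (⟨1, one_mem _⟩ : Nn K D 0) = 1 from rfl, map_one]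
    rfl
  · rw [M_one A (one_mem _), show (⟨1, one_mem _⟩ : Nn K D 1) = 1 from rfl, map_one]
    rfl

theorem L_inv {x : X} (hx : x ∈ centralizer ({z} : Set X)) : L A x⁻¹ = (L A x)⁻¹ :=
  eq_inv_of_mul_eq_one_left (by rw [← L_mul A (inv_mem hx) hx, inv_mul_cancel, L_one])

theorem M_inv {q : ℕ} (hq : q < 2) {x : X} (hx : x ∈ Nn K D q) : M A q x⁻¹ = (M A q x)⁻¹ :=
  eq_inv_of_mul_eq_one_left (by rw [← M_mul A hq (inv_mem hx) hx, inv_mul_cancel, M_one' A hq])

theorem L_snd {x : X} (hx : x ∈ centralizer ({z} : Set X)) : (L A x).2 = x := by rw [L_apply A hx]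

theorem L_eq_M {q : ℕ} (hq : q < 2) {x : X} (h : x ∈ centralizer ({z} : Set X)) (h' : x ∈ Nn K D q) :
    L A x = M A q x := by
  interval_cases q
  · rw [L_apply A h, M_zero A h', A.agree₁ x h h']
  · rw [L_apply A h, M_one A h', A.agree₂ x h h']

theorem M_agree {x : X} (h : x ∈ Nn K D 0) (h' : x ∈ Nn K D 1) : M A 0 x = M A 1 x := by
  rw [M_zero A h, M_one A h', A.agree₁₂ x h h']

namespace Valid

include hV

theorem loc_norm {q h : ℕ} (hq : q < 2) (hh : normOK K.mul K.one D q h = true) [Finite X] :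
    hV.el h ∈ Nn K D q := by
  refine hV.mem_normalizer_E fun n hn => ?_
  simp only [normOK, List.all_eq_true] at hh
  obtain ⟨w, -, hw⟩ := List.any_eq_true.1 (hh n hn)
  simp only [Bool.and_eq_true, beq_iff_eq] at hw
  rw [eq_of_code (K.rep_mul (hV.rep_el h) (hV.rep_el n)) (K.rep_mul (hV.rep_el w.2.2.2) (hV.rep_el h)) hw.2,
    mul_inv_cancel_right]
  exact hV.mem_E hq hw.1.2

theorem mem_N [Finite X] {q n : ℕ} (hq : q < 2) (h : D.has (2 + q) n = true) : hV.el n ∈ Nn K D q := by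
  refine hV.tag_mem (by omega) (Nn K D q) (fun m hm => ?_) n h
  have hl := hV.loc
  simp only [localOK, Bool.and_eq_true, List.all_eq_true] at hl
  exact hV.loc_norm hq (hl.1.1 q (List.mem_range.2 hq) m hm)

theorem side_lt {k : ℕ} (hk : k < 2) : D.side.getD k 2 < 2 := by
  have hl := hV.loc
  simp only [localOK, Bool.and_eq_true, List.all_eq_true, Nat.blt_eq] at hl
  exact (hl.2 k (List.mem_range.2 hk)).1

/-- The edge element of a type. -/
noncomputable def ed (k : ℕ) : X := if h : k < 2 then (hV.rep_edge k h).choose else 1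

theorem rep_ed {k : ℕ} (hk : k < 2) : K.Rep (D.g K.one k) (hV.ed k) := by
  rw [ed, dif_pos hk]
  exact (hV.rep_edge k hk).choose_spec

theorem ed_mem [Finite X] {k q : ℕ} (hk : k < 2) (hq : q < 2) : hV.ed k ∈ Nn K D q := by
  refine hV.mem_normalizer_E fun n hn => ?_
  have hl := hV.loc
  simp only [localOK, Bool.and_eq_true, List.all_eq_true] at hl
  obtain ⟨w, -, hw⟩ := List.any_eq_true.1 (hl.1.2 k (List.mem_range.2 hk) q (List.mem_range.2 hq) n hn)
  simp only [Bool.and_eq_true, beq_iff_eq] at hw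
  rw [eq_of_code (K.rep_mul (hV.rep_ed hk) (hV.rep_el n)) (K.rep_mul (hV.rep_el w.2.2.2) (hV.rep_ed hk)) hw.2,
    mul_inv_cancel_right]
  exact hV.mem_E hq hw.1.2

/-- The elements of the centraliser whose conjugation by an edge element is controlled by a normaliser. -/
noncomputable def dom (k : ℕ) : Subgroup X :=
  centralizer ({z} : Set X) ⊓ Nn K D (D.side.getD k 2) ⊓
    (centralizer ({z} : Set X)).comap (MulAut.conj (hV.ed k)).toMonoidHom

theorem mem_dom [Finite X] {k n : ℕ} (hk : k < 2) (h : D.has (4 + k) n = true) : hV.el n ∈ hV.dom k := by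
  refine hV.tag_mem (by omega) (hV.dom k) (fun m hm => ?_) n h
  have hl := hV.loc
  simp only [localOK, Bool.and_eq_true, List.all_eq_true] at hl
  obtain ⟨hnorm, hdom⟩ := (hl.2 k (List.mem_range.2 hk)).2 m hm
  obtain ⟨w, -, hw⟩ := List.any_eq_true.1 hdom
  simp only [Bool.and_eq_true, beq_iff_eq] at hw
  refine mem_inf.2 ⟨mem_inf.2 ⟨hV.el_mem m, hV.loc_norm (hV.side_lt hk) hnorm⟩, ?_⟩
  show hV.ed k * hV.el m * (hV.ed k)⁻¹ ∈ centralizer ({z} : Set X)
  rw [eq_of_code (K.rep_mul (hV.rep_ed hk) (hV.rep_el m)) (K.rep_mul (hV.rep_el w.2.2) (hV.rep_ed hk)) hw.2,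
    mul_inv_cancel_right]
  exact hV.el_mem _

/-- An edge element with its image. -/
noncomputable def gU (k : ℕ) : G × X := M A 0 (hV.ed k)

theorem gU_eq [Finite X] {k q : ℕ} (hk : k < 2) (hq : q < 2) : hV.gU A k = M A q (hV.ed k) := by
  interval_cases q
  · rfl
  · exact M_agree A (hV.ed_mem hk (by omega)) (hV.ed_mem hk (by omega))

theorem gU_snd [Finite X] {k : ℕ} (hk : k < 2) : (hV.gU A k).2 = hV.ed k := by
  rw [gU, M_zero A (hV.ed_mem hk (by omega))]

theorem conj_L [Finite X] {k : ℕ} (hk : k < 2) {x : X} (h : x ∈ hV.dom k) :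
    hV.gU A k * L A x = L A (hV.ed k * x * (hV.ed k)⁻¹) * hV.gU A k := by
  obtain ⟨⟨hx, hxN⟩, hy⟩ := mem_inf.1 h |>.imp_left mem_inf.1
  have hg := hV.ed_mem hk (hV.side_lt hk)
  have hy' : hV.ed k * x * (hV.ed k)⁻¹ ∈ Nn K D (D.side.getD k 2) := mul_mem (mul_mem hg hxN) (inv_mem hg)
  rw [hV.gU_eq A hk (hV.side_lt hk), L_eq_M A (hV.side_lt hk) hx hxN, L_eq_M A (hV.side_lt hk) (show hV.ed k * x * (hV.ed k)⁻¹ ∈ centralizer ({z} : Set X) from hy) hy',
    ← M_mul A (hV.side_lt hk) hg hxN, ← M_mul A (hV.side_lt hk) hy' hg, inv_mul_cancel_right]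

theorem conj_el [Finite X] {k d d' : ℕ} (hk : k < 2)
    (h : K.mul (D.g K.one k) (D.code K.one d) = K.mul (D.code K.one d') (D.g K.one k)) :
    hV.ed k * hV.el d * (hV.ed k)⁻¹ = hV.el d' := by
  rw [eq_of_code (K.rep_mul (hV.rep_ed hk) (hV.rep_el d)) (K.rep_mul (hV.rep_el d') (hV.rep_ed hk)) h,
    mul_inv_cancel_right]

end Valid

end CfsgLib.HeUnique.Cert
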