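import Cfsg.Agent.Lib.HeUnique.Cert.Sound

/-!
A checked certificate proves the universal property.
-/

set_option autoImplicit false
set_option linter.unusedSectionVars false

namespace CfsgLib.HeUnique.Cert

open CfsgLib.Fusion48.RepTable Subgroup

universe u v

variable {X : Type v} [Group X] [Finite X] {K : Coded X} {D : Data} {z : X} (hV : Valid K D z)

/-- The generation hypotheses on the model. -/
structure Spans (K : Coded X) (D : Data) (z : X) : Prop where
  cent : centralizer ({z} : Set X) ≤ closure {x | ∃ n < D.ncg, K.Rep (D.code K.one (n + 1)) x}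
  norm : ∀ q < 2, Nn K D q ≤ closure ({x | x ∈ centralizer ({z} : Set X) ∧ x ∈ Nn K D q} ∪
    {x | ∃ k < 2, K.Rep (D.g K.one k) x})
  top : closure {x | ∃ w ∈ D.top, K.Rep w.1 x} = ⊤

section

variable {G : Type u} [Group G] [Finite G] (A : Amalgam z (E K D 0) (E K D 1) G)

/-- The coset of a representative is reached by the steps. -/
def CovH (k i : ℕ) (p : X) : Prop :=
  ∃ d ∈ hV.dom k, ∃ (c : X) (j : ℕ) (m a : X), GH hV A i k c j m ∧ KH hV A i a ∧ p = d * c * a

/-- The representative of a right coset. -/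
noncomputable def rp (k p : ℕ) : X := hV.el ((D.reps.getD k []).getD p 0)

theorem forest_sound {k i : ℕ} (hk : k < 2) (hi : i < D.norb) (p : ℕ) (hp : p < (D.reps.getD k []).length) :
    CovH hV A k i (rp hV k p) := by
  have hc := hV.cover
  simp only [coverOK, Bool.and_eq_true, List.all_eq_true] at hc
  have h := (hc k (List.mem_range.2 hk)).2 i (List.mem_range.2 hi)
  simp only [forestOK, Bool.and_eq_true] at h
  set F := (D.forests.getD k []).getD i []
  have all : ∀ n, n < F.length → CovH hV A k i (rp hV k (F.getD n ⟨true, 0, 0, 0, 0⟩).p) := by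
    intro n
    induction n using Nat.strong_induction_on with
    | _ n ih =>
      intro hn
      have he := List.all_eq_true.1 h.1 n (List.mem_range.2 hn)
      set e := F.getD n ⟨true, 0, 0, 0, 0⟩
      simp only [entryOK, Bool.and_eq_true, beq_iff_eq, Nat.blt_eq] at he
      obtain ⟨⟨⟨hf, hd⟩, hs⟩, he⟩ := he
      have hdom := hV.mem_dom hk hd
      have hFH := fact_sound hV A _ hf
      split at he
      · simp only [Bool.and_eq_true, Bool.not_eq_true', beq_iff_eq] at he
        obtain ⟨⟨hkk, ht⟩, hq⟩ := he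
        refine ⟨_, hdom, _, _, _, 1, hs ▸ ht ▸ hFH.2 hkk, KH_one hV A i, ?_⟩
        rw [mul_one]
        exact eq_of_code (hV.rep_el _) (K.rep_mul (hV.rep_el _) (hV.rep_el _)) hq
      · simp only [Bool.and_eq_true, beq_iff_eq, Nat.blt_eq] at he
        obtain ⟨⟨hprev, hkk⟩, hq⟩ := he
        obtain ⟨d, hd', c, j, m, a, hg, ha, eq⟩ := ih _ hprev (Nat.lt_trans hprev hn)
        refine ⟨_, mul_mem hdom hd', c, j, m, _, hg, KH_mul hV A ha (hs ▸ hFH.1 hkk), ?_⟩
        rw [rp, eq_of_code (hV.rep_el _) (K.rep_mul (hV.rep_el _) (K.rep_mul (hV.rep_el _) (hV.rep_el _))) hq]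
        rw [rp] at eq
        rw [eq]
        simp only [mul_assoc]
  obtain ⟨e, he, hep⟩ := List.any_eq_true.1 (List.all_eq_true.1 h.2 p (List.mem_range.2 hp))
  obtain ⟨n, hn, rfl⟩ := List.mem_iff_getElem.1 he
  have hall := all n hn
  rw [List.getD_eq_getElem _ _ hn, beq_iff_eq.1 hep] at hall
  exact hall

theorem exists_coset (hS : Spans K D z) {k : ℕ} (hk : k < 2) {x : X} (hx : x ∈ centralizer ({z} : Set X)) :
    ∃ d ∈ hV.dom k, ∃ p < (D.reps.getD k []).length, x = d * rp hV k p := by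
  have hc := hV.cover
  simp only [coverOK, Bool.and_eq_true, List.all_eq_true] at hc
  have h := (hc k (List.mem_range.2 hk)).1
  simp only [movesOK, Bool.and_eq_true, beq_iff_eq, List.all_eq_true, List.mem_range, Nat.blt_eq] at h
  have hlen : 0 < (D.reps.getD k []).length := by
    by_contra hl
    have := h.1
    rw [List.getD_eq_default _ _ (by omega)] at this
    exact absurd this Nat.one_ne_zero
  have hx' : x ∈ Submonoid.closure {x | ∃ n < D.ncg, K.Rep (D.code K.one (n + 1)) x} := by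
    rw [← Subgroup.closure_toSubmonoid_of_finite]
    exact hS.cent hx
  clear hx
  induction hx' using Submonoid.closure_induction_right with
  | one =>
    refine ⟨1, one_mem _, 0, hlen, ?_⟩
    have h0 := h.1
    rw [List.getD_eq_getElem _ _ hlen] at h0
    rw [rp, List.getD_eq_getElem _ _ hlen, h0, hV.el_zero, mul_one]
  | mul_right y _ w hw ih =>
    obtain ⟨d, hd, p, hp, rfl⟩ := ih
    obtain ⟨s, hs, hrep⟩ := hw
    obtain ⟨⟨hq, hd'⟩, he⟩ := h.2 p hp s hs
    refine ⟨_, mul_mem hd (hV.mem_dom hk hd'), _, hq, ?_⟩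
    rw [← hV.el_eq hrep, rp, rp, mul_assoc, mul_assoc,
      eq_of_code (K.rep_mul (hV.rep_el _) (hV.rep_el _)) (K.rep_mul (hV.rep_el _) (hV.rep_el _)) he]

/-- The union of the double cosets of the representatives. -/
def Reach (u : G × X) : Prop :=
  ∃ i < D.norb, ∃ a ∈ centralizer ({z} : Set X), ∃ b ∈ centralizer ({z} : Set X),
    u = L A a * rep hV A i * L A b

theorem edge_reach (hS : Spans K D z) {k : ℕ} (hk : k < 2) {i : ℕ} (hi : i < D.norb) {x : X}
    (hx : x ∈ centralizer ({z} : Set X)) :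
    ∃ j < D.norb, ∃ a ∈ centralizer ({z} : Set X), ∃ b ∈ centralizer ({z} : Set X),
      hV.gU A k * L A x * rep hV A i = L A a * rep hV A j * L A b := by
  obtain ⟨d, hd, p, hp, rfl⟩ := exists_coset hV hS hk hx
  obtain ⟨d', hd', c, j, m, a, hg, ha, e⟩ := forest_sound hV A hk hi p hp
  obtain ⟨-, hj, -, mm, h, mh, eq⟩ := GH_move hV A hg (mul_mem hd hd') ha
  refine ⟨j, hj, _, mm, h, mh, ?_⟩
  rw [← eq, e]
  simp only [mul_assoc]

/-- The subgroup of the product generated by the amalgam. -/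
noncomputable def U : Subgroup (G × X) :=
  closure ((L A '' (centralizer ({z} : Set X) : Set X)) ∪ {u | ∃ k < 2, hV.gU A k = u})

theorem reach_of_mem (hS : Spans K D z) {u : G × X} (hu : u ∈ U hV A) : Reach hV A u := by
  have hu' : u ∈ Submonoid.closure ((L A '' (centralizer ({z} : Set X) : Set X)) ∪
      {u | ∃ k < 2, hV.gU A k = u}) := by
    rw [← Subgroup.closure_toSubmonoid_of_finite]
    exact hu
  clear hu
  have hn : 0 < D.norb := by
    have := hV.orbs
    simp only [orbsOK, Bool.and_eq_true, Nat.blt_eq] at this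
    exact this.1.2
  induction hu' using Submonoid.closure_induction_left with
  | one => exact ⟨0, hn, 1, one_mem _, 1, one_mem _, by rw [rep_zero, L_one, one_mul, one_mul]⟩
  | mul_left w hw v _ ih =>
    obtain ⟨i, hi, a, ha, b, hb, rfl⟩ := ih
    rcases hw with ⟨c, hc, rfl⟩ | ⟨k, hk, rfl⟩
    · exact ⟨i, hi, c * a, mul_mem hc ha, b, hb, by rw [L_mul A hc ha]; simp only [mul_assoc]⟩
    · obtain ⟨j, hj, a', ha', b', hb', e⟩ := edge_reach hV A hS hk hi ha
      refine ⟨j, hj, a', ha', b' * b, mul_mem hb' hb, ?_⟩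
      rw [L_mul A hb' hb, ← mul_assoc, ← mul_assoc, e]
      simp only [mul_assoc]

theorem L_mem_U {x : X} (hx : x ∈ centralizer ({z} : Set X)) : L A x ∈ U hV A :=
  subset_closure (Or.inl ⟨x, hx, rfl⟩)

theorem gU_mem_U {k : ℕ} (hk : k < 2) : hV.gU A k ∈ U hV A := subset_closure (Or.inr ⟨k, hk, rfl⟩)

theorem rep_mem (f : ℕ) : ∀ j < D.norb,
    repF hV A f j ∈ U hV A ∧ K.Rep (repCode K.mul K.one D f j) (repF hV A f j).2 := by
  induction f with
  | zero => exact fun j _ => ⟨one_mem _, K.rep_one⟩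
  | succ f ih =>
    intro j hj
    rw [repF, repCode]
    by_cases h0 : j = 0
    · subst h0
      exact ⟨one_mem _, K.rep_one⟩
    · have hb : (j == 0) = false := beq_eq_false_iff_ne.2 h0
      obtain ⟨h1, h2, -⟩ := orb_lt hV hj h0
      obtain ⟨m, r⟩ := ih _ (h1.trans hj)
      simp only [hb, Bool.false_eq_true, if_false, Prod.snd_mul, hV.gU_snd A h2, L_snd A (hV.el_mem _)]
      refine ⟨mul_mem (mul_mem (gU_mem_U hV A h2) (L_mem_U hV A (hV.el_mem _))) m, ?_⟩
      rw [mul_assoc]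
      exact K.rep_mul (hV.rep_ed h2) (K.rep_mul (hV.rep_el _) r)

theorem eq_one_of_snd (hS : Spans K D z) {u : G × X} (hu : u ∈ U hV A) (h : u.2 = 1) : u = 1 := by
  obtain ⟨i, hi, a, ha, b, hb, rfl⟩ := reach_of_mem hV A hS hu
  simp only [Prod.snd_mul, L_snd A ha, L_snd A hb] at h
  have hr : (rep hV A i).2 = a⁻¹ * b⁻¹ := by
    rw [eq_inv_mul_iff_mul_eq, eq_inv_iff_mul_eq_one]
    exact h
  have h0 : i = 0 := by
    by_contra h0
    have hm : (rep hV A i).2 ∈ centralizer ({z} : Set X) := hr ▸ mul_mem (inv_mem ha) (inv_mem hb)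
    have hne := (orb_lt hV hi h0).2.2
    have hrep := (rep_mem hV A i i hi).2
    have e : K.mul D.zc (repCode K.mul K.one D i i) = K.mul (repCode K.mul K.one D i i) D.zc :=
      K.rep_code (K.rep_mul hV.rep_z hrep) ((mem_centralizer_singleton_iff.1 hm).symm ▸ K.rep_mul hrep hV.rep_z)
    rw [e, beq_self_eq_true] at hne
    exact Bool.noConfusion hne
  subst h0
  rw [rep_zero] at h ⊢
  simp only [Prod.snd_one, mul_one] at h
  rw [mul_one, ← L_mul A ha hb, h, L_one]

theorem map_U (hS : Spans K D z) : (U hV A).map (MonoidHom.snd G X) = ⊤ := by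
  rw [← top_le_iff, ← hS.top, closure_le]
  rintro x ⟨w, hw, hx⟩
  have ho := hV.orbs
  simp only [orbsOK, Bool.and_eq_true, List.all_eq_true, beq_iff_eq, Nat.blt_eq] at ho
  obtain ⟨hi, he⟩ := ho.2 w hw
  obtain ⟨m, r⟩ := rep_mem hV A w.2.2.1 w.2.2.1 hi
  refine ⟨L A (hV.el w.2.1) * (repF hV A w.2.2.1 w.2.2.1 * L A (hV.el w.2.2.2)),
    mul_mem (L_mem_U hV A (hV.el_mem _)) (mul_mem m (L_mem_U hV A (hV.el_mem _))), ?_⟩
  show (L A (hV.el w.2.1) * (repF hV A w.2.2.1 w.2.2.1 * L A (hV.el w.2.2.2))).2 = x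
  rw [Prod.snd_mul, Prod.snd_mul, L_snd A (hV.el_mem _), L_snd A (hV.el_mem _)]
  exact (eq_of_code hx (K.rep_mul (hV.rep_el _) (K.rep_mul r (hV.rep_el _))) he).symm

theorem M_mem_U (hS : Spans K D z) {q : ℕ} (hq : q < 2) {x : X} (hx : x ∈ Nn K D q) : M A q x ∈ U hV A := by
  let S : Subgroup X :=
    { carrier := {x | x ∈ Nn K D q ∧ M A q x ∈ U hV A}
      one_mem' := ⟨one_mem _, by rw [M_one' A hq]; exact one_mem _⟩
      mul_mem' := fun {a b} ha hb => ⟨mul_mem ha.1 hb.1, by rw [M_mul A hq ha.1 hb.1]; exact mul_mem ha.2 hb.2⟩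
      inv_mem' := fun {a} ha => ⟨inv_mem ha.1, by rw [M_inv A hq ha.1]; exact inv_mem ha.2⟩ }
  have hle : closure ({x | x ∈ centralizer ({z} : Set X) ∧ x ∈ Nn K D q} ∪
      {x | ∃ k < 2, K.Rep (D.g K.one k) x}) ≤ S := by
    rw [closure_le]
    rintro y (⟨hy, hy'⟩ | ⟨k, hk, hr⟩)
    · exact ⟨hy', L_eq_M A hq hy hy' ▸ L_mem_U hV A hy⟩
    · have e : y = hV.ed k := K.rep_uniq hr (hV.rep_ed hk)
      subst e
      exact ⟨hV.ed_mem hk hq, hV.gU_eq A hk hq ▸ gU_mem_U hV A hk⟩
  exact (hle (hS.norm q hq hx)).2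

end

include hV in
/-- A checked certificate with the generation hypotheses gives the universal property. -/
theorem universal (hS : Spans K D z) : Universal.{u, v} z (E K D 0) (E K D 1) := by
  intro G _ _ A
  let p : U hV A →* X := (MonoidHom.snd G X).comp (U hV A).subtype
  have hinj : Function.Injective p := (injective_iff_map_eq_one p).2 fun u hu =>
    Subtype.ext (eq_one_of_snd hV A hS u.2 hu)
  have hsurj : Function.Surjective p := fun x => by
    obtain ⟨u, hu, rfl⟩ : x ∈ (U hV A).map (MonoidHom.snd G X) := by rw [map_U hV A hS]; trivial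
    exact ⟨⟨u, hu⟩, rfl⟩
  let e := MulEquiv.ofBijective p ⟨hinj, hsurj⟩
  have key : ∀ (v : G × X), v ∈ U hV A → ((U hV A).subtype (e.symm v.2)).1 = v.1 := fun v hv => by
    rw [show e.symm v.2 = ⟨v, hv⟩ from e.injective (by rw [MulEquiv.apply_symm_apply]; rfl)]
    rfl
  refine ⟨(MonoidHom.fst G X).comp ((U hV A).subtype.comp e.symm.toMonoidHom),
    fun c => ?_, fun n => ?_, fun n => ?_⟩
  · exact key (A.θ c, c) (by rw [← L_apply A c.2]; exact L_mem_U hV A c.2)
  · exact key (A.ψ₁ n, n) (by rw [← M_zero A n.2]; exact M_mem_U hV A hS Nat.two_pos n.2)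
  · exact key (A.ψ₂ n, n) (by rw [← M_one A n.2]; exact M_mem_U hV A hS Nat.one_lt_two n.2)

end CfsgLib.HeUnique.Cert
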