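import Cfsg.Agent.Lib.HeUnique.Cert.Lift

/-!
The meaning of the steps of a certificate.
-/

set_option autoImplicit false
set_option linter.unusedSectionVars false

namespace CfsgLib.HeUnique.Cert

open CfsgLib.Fusion48.RepTable Subgroup

universe u v

variable {X : Type v} [Group X] [Finite X] {K : Coded X} {D : Data} {z : X} (hV : Valid K D z)
variable {G : Type u} [Group G] (A : Amalgam z (E K D 0) (E K D 1) G)

/-- The representative of an orbit, with fuel. -/
noncomputable def repF : ℕ → ℕ → G × X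
  | 0, _ => 1
  | f + 1, j => if j == 0 then 1 else
      hV.gU A (D.orbs.getD j (0, 2, 0)).2.1 * L A (hV.el (D.orbs.getD j (0, 2, 0)).2.2) *
        repF f (D.orbs.getD j (0, 2, 0)).1

/-- The representative of an orbit. -/
noncomputable def rep (j : ℕ) : G × X := repF hV A j j

theorem rep_zero : rep hV A 0 = 1 := rfl

include hV in
theorem orb_lt {j : ℕ} (hj : j < D.norb) (h0 : j ≠ 0) :
    (D.orbs.getD j (0, 2, 0)).1 < j ∧ (D.orbs.getD j (0, 2, 0)).2.1 < 2 ∧
      (K.mul D.zc (repCode K.mul K.one D j j) == K.mul (repCode K.mul K.one D j j) D.zc) = false := by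
  have := hV.orbs
  simp only [orbsOK, Bool.and_eq_true, List.all_eq_true] at this
  have h := this.1.1 j (List.mem_range.2 hj)
  simp only [beq_iff_eq, Bool.or_eq_true, Bool.and_eq_true, Nat.blt_eq, Bool.not_eq_true'] at h
  rcases h with h | ⟨⟨h1, h2⟩, h3⟩
  · exact absurd h h0
  · exact ⟨h1, h2, h3⟩

theorem repF_stable (j : ℕ) : ∀ f, j ≤ f → j < D.norb → repF hV A f j = rep hV A j := by
  induction j using Nat.strong_induction_on with
  | _ j ih =>
    intro f hf hj
    by_cases h0 : j = 0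
    · subst h0
      cases f <;> rfl
    · obtain ⟨f', rfl⟩ := Nat.exists_eq_succ_of_ne_zero (show f ≠ 0 by omega)
      obtain ⟨j', rfl⟩ := Nat.exists_eq_succ_of_ne_zero h0
      have hlt := (orb_lt hV hj h0).1
      rw [rep, repF, repF]
      have hb : (j' + 1 == 0) = false := beq_eq_false_iff_ne.2 (by omega)
      simp only [Nat.succ_eq_add_one, hb, Bool.false_eq_true, if_false]
      rw [ih _ hlt f' (by omega) (by omega), ih _ hlt j' (by omega) (by omega)]

theorem rep_step {i k c j : ℕ} (hj : j < D.norb) (hij : i < j) (h : D.orbs.getD j (0, 2, 0) = (i, k, c)) :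
    rep hV A j = hV.gU A k * L A (hV.el c) * rep hV A i := by
  obtain ⟨j', rfl⟩ := Nat.exists_eq_succ_of_ne_zero (show j ≠ 0 by omega)
  rw [rep, repF]
  have hb : (j' + 1 == 0) = false := beq_eq_false_iff_ne.2 (by omega)
  simp only [Nat.succ_eq_add_one, hb, Bool.false_eq_true, if_false] at h ⊢
  simp only [h]
  rw [repF_stable hV A i j' (by omega) (by omega)]

/-- An element of the centraliser fixes the representative of an orbit up to the centraliser. -/
def KH (i : ℕ) (x : X) : Prop :=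
  x ∈ centralizer ({z} : Set X) ∧
    ∃ h ∈ centralizer ({z} : Set X), L A x * rep hV A i = rep hV A i * L A h

/-- The edge equation from the orbit `i` at `c` to the orbit `j` at `m`. -/
def GH (i k : ℕ) (c : X) (j : ℕ) (m : X) : Prop :=
  k < 2 ∧ j < D.norb ∧ c ∈ centralizer ({z} : Set X) ∧ m ∈ centralizer ({z} : Set X) ∧
    ∃ h ∈ centralizer ({z} : Set X), hV.gU A k * L A c * rep hV A i = L A m * rep hV A j * L A h

/-- The meaning of a step. -/
def FH (f : Fact) : Prop :=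
  (f.isK = true → KH hV A f.src (hV.el f.elt)) ∧
    (f.isK = false → GH hV A f.src f.typ (hV.el f.elt) f.tgt (hV.el f.out))

theorem KH_one (i : ℕ) : KH hV A i 1 :=
  ⟨one_mem _, 1, one_mem _, by rw [L_one, one_mul, mul_one]⟩

theorem KH_mul {i : ℕ} {x y : X} (hx : KH hV A i x) (hy : KH hV A i y) : KH hV A i (x * y) := by
  obtain ⟨mx, h, mh, eh⟩ := hx
  obtain ⟨my, h', mh', eh'⟩ := hy
  refine ⟨mul_mem mx my, h * h', mul_mem mh mh', ?_⟩
  rw [L_mul A mx my, mul_assoc, eh', ← mul_assoc, eh, mul_assoc, ← L_mul A mh mh']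

theorem GH_move {i k j : ℕ} {c m d a : X} (hg : GH hV A i k c j m) (hd : d ∈ hV.dom k) (ha : KH hV A i a) :
    GH hV A i k (d * c * a) j (hV.ed k * d * (hV.ed k)⁻¹ * m) := by
  obtain ⟨hk, hj, mc, mm, h, mh, e⟩ := hg
  obtain ⟨ma, h', mh', e'⟩ := ha
  have md : d ∈ centralizer ({z} : Set X) := (mem_inf.1 (mem_inf.1 hd).1).1
  have mp : hV.ed k * d * (hV.ed k)⁻¹ ∈ centralizer ({z} : Set X) := (mem_inf.1 hd).2
  refine ⟨hk, hj, mul_mem (mul_mem md mc) ma, mul_mem mp mm, h * h', mul_mem mh mh', ?_⟩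
  calc hV.gU A k * L A (d * c * a) * rep hV A i
      = hV.gU A k * L A d * L A c * (L A a * rep hV A i) := by
        rw [L_mul A (mul_mem md mc) ma, L_mul A md mc]; simp only [mul_assoc]
    _ = L A (hV.ed k * d * (hV.ed k)⁻¹) * (hV.gU A k * L A c * rep hV A i) * L A h' := by
        rw [e', hV.conj_L A hk hd]; simp only [mul_assoc]
    _ = L A (hV.ed k * d * (hV.ed k)⁻¹ * m) * rep hV A j * L A (h * h') := by
        rw [e, L_mul A mp mm, L_mul A mh mh']; simp only [mul_assoc]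

theorem kFact {n a i : ℕ} (ih : ∀ b < n, FH hV A (D.fact b)) (h : kAt D n a i = true) :
    KH hV A i (hV.el (D.fact a).elt) := by
  simp only [kAt, Bool.and_eq_true, beq_iff_eq, Nat.blt_eq] at h
  exact h.2 ▸ (ih a h.1.1).1 h.1.2

theorem gFact {n a : ℕ} (ih : ∀ b < n, FH hV A (D.fact b)) (h : gAt D n a = true) :
    GH hV A (D.fact a).src (D.fact a).typ (hV.el (D.fact a).elt) (D.fact a).tgt (hV.el (D.fact a).out) := by
  simp only [gAt, Bool.and_eq_true, Bool.not_eq_true', Nat.blt_eq] at h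
  exact (ih a h.1).2 h.2

theorem look_sound {n : ℕ} {l : Look} (ih : ∀ b < n, FH hV A (D.fact b))
    (h : lookOK K.mul K.one D n l = true) :
    hV.el l.d ∈ hV.dom (D.fact l.fact).typ ∧
      hV.ed (D.fact l.fact).typ * hV.el l.d * (hV.ed (D.fact l.fact).typ)⁻¹ = hV.el l.d' ∧
      GH hV A (D.fact l.fact).src (D.fact l.fact).typ (hV.el (D.fact l.fact).elt) (D.fact l.fact).tgt
        (hV.el (D.fact l.fact).out) := by
  simp only [lookOK, Bool.and_eq_true, beq_iff_eq, Nat.blt_eq] at h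
  exact ⟨hV.mem_dom h.1.1.2 h.1.2, hV.conj_el h.1.1.2 h.2, gFact hV A ih h.1.1.1⟩

/-- The element obtained by following a path. -/
noncomputable def pathVal (w : G × X) : List (ℕ × ℕ) → G × X
  | [] => w
  | s :: ps => pathVal (L A (hV.el s.1) * (hV.gU A s.2 * w)) ps

theorem chain_sound {n : ℕ} (ih : ∀ b < n, FH hV A (D.fact b)) :
    ∀ (ps : List (ℕ × ℕ)) (ls : List Look) (i c j m : ℕ) (x h : X) (w r : G × X),
      chainAt K.mul K.one D n ps ls i c j m = true → K.Rep c x → x ∈ centralizer ({z} : Set X) →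
      h ∈ centralizer ({z} : Set X) → w * r = L A x * rep hV A i * L A h →
      ∃ y h', K.Rep m y ∧ y ∈ centralizer ({z} : Set X) ∧ h' ∈ centralizer ({z} : Set X) ∧
        pathVal hV A w ps * r = L A y * rep hV A j * L A h' := by
  intro ps
  induction ps with
  | nil =>
    intro ls i c j m x h w r hc hx mx mh e
    cases ls with
    | nil =>
      simp only [chainAt, Bool.and_eq_true, beq_iff_eq] at hc
      obtain ⟨rfl, rfl⟩ := hc
      exact ⟨x, h, hx, mx, mh, e⟩
    | cons l ls => simp [chainAt] at hc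
  | cons s ps ihp =>
    intro ls i c j m x h w r hc hx mx mh e
    cases ls with
    | nil => simp [chainAt] at hc
    | cons l ls =>
      simp only [chainAt, lookAt, Bool.and_eq_true, beq_iff_eq] at hc
      obtain ⟨⟨⟨⟨⟨hl, hsrc⟩, hka⟩, hcode⟩, htyp⟩, hrest⟩ := hc
      obtain ⟨hdom, hphi, hG⟩ := look_sound hV A ih hl
      rw [hsrc] at hG
      have hx' : x = hV.el l.d * hV.el (D.fact l.fact).elt * hV.el (D.fact l.stab).elt := by
        rw [mul_assoc]
        exact eq_of_code hx (K.rep_mul (hV.rep_el _) (K.rep_mul (hV.rep_el _) (hV.rep_el _))) hcode.symm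
      obtain ⟨hk, -, -, mm, y1, my1, e1⟩ := GH_move hV A hG hdom (kFact hV A ih hka)
      rw [hphi, htyp, ← hx'] at e1
      rw [hphi] at mm
      refine ihp ls _ _ j m (hV.el s.1 * (hV.el l.d' * hV.el (D.fact l.fact).out)) (y1 * h)
        (L A (hV.el s.1) * (hV.gU A s.2 * w)) r hrest
        (K.rep_mul (hV.rep_el _) (K.rep_mul (hV.rep_el _) (hV.rep_el _)))
        (mul_mem (hV.el_mem _) mm) (mul_mem my1 mh) ?_
      calc L A (hV.el s.1) * (hV.gU A s.2 * w) * r
          = L A (hV.el s.1) * (hV.gU A s.2 * L A x * rep hV A i) * L A h := by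
            simp only [mul_assoc] at e ⊢; rw [e]
        _ = L A (hV.el s.1 * (hV.el l.d' * hV.el (D.fact l.fact).out)) * rep hV A (D.fact l.fact).tgt *
              L A (y1 * h) := by
            rw [e1, L_mul A (hV.el_mem s.1) mm, L_mul A my1 mh]; simp only [mul_assoc]

theorem path_mem {q : ℕ} (hq : q < 2) :
    ∀ (ps : List (ℕ × ℕ)) (acc : ℕ) (v : X) (w : G × X),
      (∀ s ∈ ps, (D.has (2 + q) s.1 && Nat.blt s.2 2) = true) → K.Rep acc v → v ∈ Nn K D q →
      w = M A q v →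
      ∃ v', K.Rep (ps.foldl (fun a s => K.mul (D.code K.one s.1) (K.mul (D.g K.one s.2) a)) acc) v' ∧
        v' ∈ Nn K D q ∧ pathVal hV A w ps = M A q v' := by
  intro ps
  induction ps with
  | nil => exact fun acc v w _ hv mv e => ⟨v, hv, mv, e⟩
  | cons s ps ihp =>
    intro acc v w hall hv mv e
    have hs := hall s List.mem_cons_self
    simp only [Bool.and_eq_true, Nat.blt_eq] at hs
    have m1 := hV.mem_N hq hs.1
    have m2 := hV.ed_mem hs.2 hq
    refine ihp _ (hV.el s.1 * (hV.ed s.2 * v)) _ (fun t ht => hall t (List.mem_cons_of_mem _ ht))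
      (K.rep_mul (hV.rep_el _) (K.rep_mul (hV.rep_ed hs.2) hv)) (mul_mem m1 (mul_mem m2 mv)) ?_
    rw [e, L_eq_M A hq (hV.el_mem _) m1, hV.gU_eq A hs.2 hq, ← M_mul A hq m2 mv,
      ← M_mul A hq m1 (mul_mem m2 mv)]

theorem flip_eq {k : ℕ} (hk : k < 2) (h : flipOK K.mul K.one D k = true) :
    (D.flips.getD k (0, 2, 0)).2.1 < 2 ∧
      hV.gU A k * (L A (hV.el (D.flips.getD k (0, 2, 0)).1) * (hV.gU A (D.flips.getD k (0, 2, 0)).2.1 *
        L A (hV.el (D.flips.getD k (0, 2, 0)).2.2))) = 1 := by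
  simp only [flipOK, Bool.and_eq_true, beq_iff_eq, Nat.blt_eq] at h
  obtain ⟨⟨⟨hk2, ha⟩, hb⟩, he⟩ := h
  refine ⟨hk2, ?_⟩
  have h0 : (0 : ℕ) < 2 := Nat.two_pos
  have m0 := hV.ed_mem hk h0
  have m1 := hV.mem_N h0 ha
  have m2 := hV.ed_mem hk2 h0
  have m3 := hV.mem_N h0 hb
  rw [L_eq_M A h0 (hV.el_mem _) m1, L_eq_M A h0 (hV.el_mem _) m3, hV.gU_eq A hk h0, hV.gU_eq A hk2 h0,
    ← M_mul A h0 m2 m3, ← M_mul A h0 m1 (mul_mem m2 m3), ← M_mul A h0 m0 (mul_mem m1 (mul_mem m2 m3)),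
    ← M_one' A h0]
  exact congrArg (M A 0) (eq_of_code (K.rep_mul (hV.rep_ed hk) (K.rep_mul (hV.rep_el _)
    (K.rep_mul (hV.rep_ed hk2) (hV.rep_el _)))) K.rep_one he)

theorem step_sound {n : ℕ} {f : Fact} (ih : ∀ b < n, FH hV A (D.fact b))
    (h : stepOK K.mul K.one D n f = true) : FH hV A f := by
  cases f with
  | unit i =>
    refine ⟨fun _ => ?_, fun e => Bool.noConfusion e⟩
    show KH hV A i (hV.el 0)
    rw [hV.el_zero]
    exact KH_one hV A i
  | zero x =>
    refine ⟨fun _ => ⟨hV.el_mem x, hV.el x, hV.el_mem x, ?_⟩, fun e => Bool.noConfusion e⟩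
    show L A (hV.el x) * rep hV A 0 = rep hV A 0 * L A (hV.el x)
    rw [rep_zero, one_mul, mul_one]
  | mul i a b x =>
    refine ⟨fun _ => ?_, fun e => Bool.noConfusion e⟩
    simp only [stepOK, Bool.and_eq_true, beq_iff_eq] at h
    obtain ⟨⟨ha, hb⟩, he⟩ := h
    show KH hV A i (hV.el x)
    rw [eq_of_code (hV.rep_el x) (K.rep_mul (hV.rep_el _) (hV.rep_el _)) he]
    exact KH_mul hV A (kFact hV A ih ha) (kFact hV A ih hb)
  | coin j f f' x =>
    refine ⟨fun _ => ?_, fun e => Bool.noConfusion e⟩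
    simp only [stepOK, Bool.and_eq_true, beq_iff_eq] at h
    obtain ⟨⟨⟨⟨⟨⟨⟨hf, hf'⟩, hs⟩, ht⟩, hc⟩, htg⟩, hj⟩, he⟩ := h
    have hm := eq_of_code (K.rep_mul (hV.rep_el _) (hV.rep_el x)) (hV.rep_el _) he
    obtain ⟨-, -, -, mm, y, my, e1⟩ := gFact hV A ih hf
    obtain ⟨-, -, -, -, y', my', e2⟩ := gFact hV A ih hf'
    rw [← hs, ← ht, ← hc, ← htg, e1, ← hm, L_mul A mm (hV.el_mem x)] at e2
    subst hj
    refine ⟨hV.el_mem x, y * y'⁻¹, mul_mem my (inv_mem my'), ?_⟩
    show L A (hV.el x) * rep hV A (D.fact f).tgt = _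
    rw [L_mul A my (inv_mem my'), L_inv A my', ← mul_assoc, eq_mul_inv_iff_mul_eq]
    simp only [mul_assoc] at e2 ⊢
    exact (mul_left_cancel e2).symm
  | transfer j l x =>
    refine ⟨fun _ => ?_, fun e => Bool.noConfusion e⟩
    simp only [stepOK, Bool.and_eq_true, beq_iff_eq] at h
    obtain ⟨⟨⟨⟨hl, hj⟩, ha⟩, he1⟩, he2⟩ := h
    obtain ⟨hdom, hphi, hG⟩ := look_sound hV A ih hl
    obtain ⟨hk, -, mc, mm, y, my, eG⟩ := hG
    obtain ⟨mK, w, mw, eK⟩ := kFact hV A ih ha
    have h1 := eq_of_code (K.rep_mul (hV.rep_el l.d) (hV.rep_el _))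
      (K.rep_mul (hV.rep_el _) (hV.rep_el _)) he1
    have h2 := eq_of_code (K.rep_mul (hV.rep_el l.d') (hV.rep_el _))
      (K.rep_mul (hV.rep_el _) (hV.rep_el x)) he2
    subst hj
    refine ⟨hV.el_mem x, y * w * y⁻¹, mul_mem (mul_mem my mw) (inv_mem my), ?_⟩
    show L A (hV.el x) * rep hV A (D.fact l.fact).tgt = _
    have key : L A (hV.el (D.fact l.fact).out) * (L A (hV.el x) * rep hV A (D.fact l.fact).tgt * L A y) =
        L A (hV.el (D.fact l.fact).out) * (rep hV A (D.fact l.fact).tgt * (L A y * L A w)) := by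
      calc _ = L A (hV.el (D.fact l.fact).out * hV.el x) * rep hV A (D.fact l.fact).tgt * L A y := by
              rw [L_mul A mm (hV.el_mem x)]; simp only [mul_assoc]
        _ = L A (hV.el l.d') * (L A (hV.el (D.fact l.fact).out) * rep hV A (D.fact l.fact).tgt * L A y) := by
              rw [← h2, L_mul A (hV.el_mem _) mm]; simp only [mul_assoc]
        _ = L A (hV.el l.d') * hV.gU A (D.fact l.fact).typ * L A (hV.el (D.fact l.fact).elt) *
              rep hV A (D.fact l.fact).src := by rw [← eG]; simp only [mul_assoc]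
        _ = hV.gU A (D.fact l.fact).typ * L A (hV.el l.d * hV.el (D.fact l.fact).elt) *
              rep hV A (D.fact l.fact).src := by
              rw [← hphi, ← hV.conj_L A hk hdom, L_mul A (hV.el_mem _) mc]; simp only [mul_assoc]
        _ = hV.gU A (D.fact l.fact).typ * L A (hV.el (D.fact l.fact).elt) *
              rep hV A (D.fact l.fact).src * L A w := by
              rw [h1, L_mul A mc mK]; simp only [mul_assoc]; rw [eK]
        _ = _ := by rw [eG]; simp only [mul_assoc]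
    rw [L_mul A (mul_mem my mw) (inv_mem my), L_inv A my, L_mul A my mw, ← mul_assoc, eq_mul_inv_iff_mul_eq]
    exact mul_left_cancel key
  | tree i k c j =>
    refine ⟨fun e => Bool.noConfusion e, fun _ => ?_⟩
    simp only [stepOK, Bool.and_eq_true, beq_iff_eq, Nat.blt_eq] at h
    obtain ⟨⟨⟨hij, hj⟩, hk⟩, hp⟩ := h
    refine ⟨hk, hj, hV.el_mem c, hV.el_mem 0, 1, one_mem _, ?_⟩
    show hV.gU A k * L A (hV.el c) * rep hV A i = L A (hV.el 0) * rep hV A j * L A 1
    rw [hV.el_zero, L_one, one_mul, mul_one, rep_step hV A hj hij hp]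
  | flip l i k c j m =>
    refine ⟨fun e => Bool.noConfusion e, fun _ => ?_⟩
    simp only [stepOK, Bool.and_eq_true, beq_iff_eq, Nat.blt_eq] at h
    obtain ⟨⟨⟨⟨⟨⟨hl, hk1⟩, hi⟩, hs⟩, hj⟩, ha⟩, ⟨⟨⟨⟨hf, hkk⟩, hd⟩, hd'⟩, he1⟩, he2⟩ := h
    obtain ⟨hk2, hflip⟩ := flip_eq hV A hk1 hf
    rw [hkk] at hk2 hflip
    set w := D.flips.getD (D.fact l.fact).typ (0, 2, 0)
    have hdom := hV.mem_dom hk2 hd
    have hphi := hV.conj_el hk2 hd'
    obtain ⟨mK, x, mx, eK⟩ := kFact hV A ih ha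
    obtain ⟨-, -, mc, mm, y, my, eG⟩ := gFact hV A ih hl
    rw [hi, hs] at eG
    have h1 := eq_of_code (K.rep_mul (hV.rep_el w.2.2) (hV.rep_el _))
      (K.rep_mul (hV.rep_el l.d) (K.rep_mul (hV.rep_el c) (hV.rep_el _))) he1
    have h2 := eq_of_code (K.rep_mul (hV.rep_el w.1) (K.rep_mul (hV.rep_el l.d') (hV.rep_el m)))
      (hV.rep_el _) he2
    refine ⟨hk2, hj, hV.el_mem c, hV.el_mem m, y⁻¹ * x⁻¹, mul_mem (inv_mem my) (inv_mem mx), ?_⟩
    show hV.gU A k * L A (hV.el c) * rep hV A i = L A (hV.el m) * rep hV A j * L A (y⁻¹ * x⁻¹)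
    have key : L A (hV.el w.1) * L A (hV.el l.d') *
        (hV.gU A k * L A (hV.el c) * rep hV A i * (L A x * L A y)) =
        L A (hV.el w.1) * L A (hV.el l.d') * (L A (hV.el m) * rep hV A j) := by
      calc _ = L A (hV.el w.1) * (L A (hV.el l.d') * hV.gU A k) * L A (hV.el c) *
              (rep hV A i * L A x) * L A y := by simp only [mul_assoc]
        _ = L A (hV.el w.1) * hV.gU A k * (L A (hV.el l.d) * (L A (hV.el c) * L A (hV.el (D.fact l.stab).elt))) *
              rep hV A i * L A y := by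
              rw [← hphi, ← hV.conj_L A hk2 hdom, ← eK]; simp only [mul_assoc]
        _ = L A (hV.el w.1) * hV.gU A k * L A (hV.el w.2.2) *
              (L A (hV.el (D.fact l.fact).out) * rep hV A i * L A y) := by
            rw [← L_mul A (hV.el_mem c) mK, ← L_mul A (hV.el_mem l.d) (mul_mem (hV.el_mem c) mK), ← h1,
              L_mul A (hV.el_mem _) mm]
            simp only [mul_assoc]
        _ = L A (hV.el w.1) * hV.gU A k * L A (hV.el w.2.2) *
              (hV.gU A (D.fact l.fact).typ * (L A (hV.el (D.fact l.fact).elt) * rep hV A j)) := by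
            rw [← eG]; simp only [mul_assoc]
        _ = L A (hV.el (D.fact l.fact).elt) * rep hV A j := by
            have h3 : L A (hV.el w.1) * hV.gU A k * L A (hV.el w.2.2) * hV.gU A (D.fact l.fact).typ = 1 :=
              mul_eq_one_comm.1 (by simp only [mul_assoc] at hflip ⊢; exact hflip)
            rw [← mul_assoc, h3, one_mul]
        _ = _ := by
            rw [← h2, L_mul A (hV.el_mem _) (mul_mem (hV.el_mem _) (hV.el_mem m)),
              L_mul A (hV.el_mem _) (hV.el_mem m)]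
            simp only [mul_assoc]
    rw [L_mul A (inv_mem my) (inv_mem mx), L_inv A my, L_inv A mx, ← mul_inv_rev, eq_mul_inv_iff_mul_eq]
    exact mul_left_cancel key
  | chain e ls i k c j m =>
    refine ⟨fun q => Bool.noConfusion q, fun _ => ?_⟩
    simp only [stepOK, identOK, Bool.and_eq_true, beq_iff_eq, Nat.blt_eq, List.all_eq_true] at h
    obtain ⟨⟨⟨⟨⟨⟨⟨hq, hk⟩, hh⟩, hps⟩, hfold⟩, hkk⟩, hj⟩, hchain⟩ := h
    rw [hkk] at hk hfold
    set x := D.idents.getD e (2, 2, [], 0)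
    have mh := hV.mem_N hq hh
    obtain ⟨v', hv', mv', hval⟩ := path_mem hV A hq x.2.2.1 _ _ (L A (hV.el x.2.2.2))
      (fun s hs => by simp only [Bool.and_eq_true, Nat.blt_eq]; exact hps s hs)
      (hV.rep_el x.2.2.2) mh (L_eq_M A hq (hV.el_mem _) mh)
    rw [eq_of_code hv' (hV.rep_ed hk) hfold, ← hV.gU_eq A hk hq] at hval
    obtain ⟨y, h', hy, my, mh', hres⟩ := chain_sound hV A ih x.2.2.1 ls i _ j _
      (hV.el x.2.2.2 * hV.el c) 1 (L A (hV.el x.2.2.2)) (L A (hV.el c) * rep hV A i) hchain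
      (K.rep_mul (hV.rep_el _) (hV.rep_el _)) (mul_mem (hV.el_mem _) (hV.el_mem _)) (one_mem _)
      (by rw [L_mul A (hV.el_mem _) (hV.el_mem _), L_one, mul_one, mul_assoc])
    rw [hval, ← hV.el_eq hy, ← mul_assoc] at hres
    exact ⟨hk, hj, hV.el_mem c, hV.el_mem m, h', mh', hres⟩

theorem fact_sound (n : ℕ) (hn : n < D.nfacts) : FH hV A (D.fact n) := by
  induction n using Nat.strong_induction_on with
  | _ n ih => exact step_sound hV A (fun b hb => ih b hb (hb.trans hn)) (hV.steps n hn)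

end CfsgLib.HeUnique.Cert
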